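import Cfsg.Agent.H87.TW.Extra
import Cfsg.Agent.H607.TW.Outer

/-!
# S3694, T16 (helper87): `end_extra`
-/

set_option autoImplicit false

namespace Cfsg.Agent.H87.TW

open Subgroup Cfsg.Agent.H607.TW

universe u

/-- **T16 : the extraspecial case** -/
theorem end_extra {G : Type u} [Group G] [Finite G] {N A C A₁ C₁ A₂ C₂ : Subgroup G} {r d : ℕ}
    {F : Type} [Field F] [Fintype F] {n : ℕ} {S : Type} [Group S]
    {ι : S →* Matrix.GeneralLinearGroup (Fin n) F} {π : S →* G} (h : Sit N A C A₁ C₁ A₂ C₂ r d)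
    (_hr : ¬ r ∣ Fintype.card F) (hM : Model N ι π) (hcyc : CycAx ι π N) (hX : Extra ι π N A r)
    (hidx : N.index ≤ 2 * Nat.card (F ≃+* F) * Nat.card π.ker)
    (hout : ∀ (A' : Subgroup G) (x : G), Loc N A' r → Extra ι π N A' r → x ^ r = 1 → x ≠ 1 → (∀ y ∈ A' ⊓ N, x * y = y * x) →
      (∀ y ∈ N, x * y = y * x → y ∈ A') → (∀ B : Matrix.GeneralLinearGroup (Fin n) F, ¬ Ind ι π x (tauP B 1)) →
      (r = 2 ∧ Nat.card F ≤ 10 ^ 4) ∨ Nat.card ↥A' ≤ M 5) : Nat.card ↥A ≤ M d := by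
  refine end_extra_of ?_ h hM hX hidx hout
  intro A' K hA' hK hn hne hKN
  obtain ⟨x, h1, h2, h3, _, h5, h6, h7, _⟩ := outer hA' hM hcyc hK hn hne hKN
  exact ⟨x, h1, h3, h2, h5, h6, h7⟩

end Cfsg.Agent.H87.TW
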